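import Groth.Agent.Lib.SymGr.Basic
import Groth.Agent.Lib.SymGr.Regular
import Groth.Agent.Lib.SymGr.Smooth
import Groth.Agent.Lib.QReg26.Basic
import Groth.Agent.Lib.LocalFP.Basic
import Mathlib.RingTheory.Localization.Free
import Mathlib.RingTheory.Flat.LocallyFree

/-!
# Quasi-regular ideals and the symmetric algebra of `J/J²`
-/

set_option autoImplicit false
set_option linter.style.haveILetI false
set_option maxHeartbeats 1000000
universe u

noncomputable section

namespace GrothLib.SymGrLoc

open MvPolynomial GrothLib.PrincipalParts GrothLib.SymGr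

variable {R : Type u} [CommRing R] (J : Ideal R) {ι : Type u} [Fintype ι]

section lam

variable {σ : Type u} {Q : Type u} [CommRing Q] [Algebra R Q] (κ : J.Cotangent →ₗ[R] σ →₀ Q)

variable (ι) in
/-- Symmetric tensors as forms, through coordinates on `J/J²` with values in an algebra. -/
def lam : SymmetricPower R ι J.Cotangent →ₗ[R] MvPolynomial σ Q :=
  symLift (((prodForm ι).restrictScalars R).compLinearMap fun _ => κ) fun e x => by
    simp only [MultilinearMap.compLinearMap_apply, MultilinearMap.coe_restrictScalars, prodForm_apply]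
    exact Equiv.prod_comp e fun i => linForm (κ (x i))

theorem lam_tprod (x : ι → J.Cotangent) :
    lam J ι κ (SymmetricPower.tprod R x) = prodForm ι fun i => κ (x i) :=
  symLift_tprod _ _ x

/-- On forms of degree `n`, the coordinates undo the substitution. -/
theorem lam_ofPoly [Nonempty ι] (r : (σ →₀ R ⧸ J) →ₗ[R ⧸ J] J.Cotangent)
    (hκ : ∀ j, κ (r (Finsupp.single j 1)) = Finsupp.single j 1) (F : MvPolynomial σ R)
    (hF : F.IsHomogeneous (Fintype.card ι)) :
    lam J ι κ (ofPoly J ι r (map (Ideal.Quotient.mk J) F)) = map (algebraMap R Q) F := by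
  classical
  conv_lhs => rw [F.as_sum]
  conv_rhs => rw [F.as_sum]
  simp only [map_sum, map_monomial]
  refine Finset.sum_congr rfl fun p hp => ?_
  have hdeg : p.degree = Fintype.card ι := by
    have := hF (mem_support_iff.1 hp)
    rw [Finsupp.degree_eq_weight_one]
    exact this
  rw [ofPoly_monomial, dif_pos hdeg, map_smul, lam_tprod]
  simp only [hκ]
  rw [prodForm_single, (exists_enum p hdeg).choose_spec, ← algebraMap_smul Q, smul_monomial, smul_eq_mul,
    mul_one]

end lam

section chart

variable {R' : Type u} [CommRing R'] [Algebra R R'] {d : ℕ} (x : Fin d → ↥J)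

/-- Coordinates on `J/J²` given by a quasi-regular sequence generating the extended ideal. -/
theorem exists_coord (hq : CAlgX.IsQuasiRegular fun i => algebraMap R R' (x i))
    (hs : Ideal.span (Set.range fun i => algebraMap R R' (x i : R)) = J.map (algebraMap R R')) :
    ∃ κ : J.Cotangent →ₗ[R] ULift.{u} (Fin d) →₀ R' ⧸ J.map (algebraMap R R'),
      (∀ j : ULift.{u} (Fin d), κ (J.toCotangent (x j.down)) = Finsupp.single j 1) ∧
      ∀ y : ↥J, ∃ a : ULift.{u} (Fin d) → R', (∀ j, Ideal.Quotient.mk _ (a j) = κ (J.toCotangent y) j) ∧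
        ∑ j, a j * algebraMap R R' (x j.down) - algebraMap R R' y ∈ J.map (algebraMap R R') ^ 2 := by
  classical
  let J' := J.map (algebraMap R R')
  let x' : Fin d → ↥J' := fun i => ⟨_, Ideal.mem_map_of_mem _ (x i).2⟩
  obtain ⟨hli, hsp⟩ := QReg26.linearIndependent_toCotangent J' x' hq hs
  let b := (Module.Basis.mk hli hsp.ge).reindex (Equiv.ulift.{u}.symm)
  let m : J.Cotangent →ₗ[R] J'.Cotangent :=
    Ideal.mapCotangent J J' (Algebra.ofId R R') Ideal.le_comap_map
  haveI : IsScalarTower R (R' ⧸ J') J'.Cotangent := IsScalarTower.of_algebraMap_smul fun c z => by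
    rw [IsScalarTower.algebraMap_apply R R' (R' ⧸ J')]
    exact (algebraMap_smul (R' ⧸ J') (algebraMap R R' c) z).trans (algebraMap_smul R' c z)
  let κ : J.Cotangent →ₗ[R] ULift.{u} (Fin d) →₀ R' ⧸ J' :=
    (b.repr.toLinearMap.restrictScalars R).comp m
  refine ⟨κ, fun j => ?_, fun y => ?_⟩
  · show b.repr (m (J.toCotangent (x j.down))) = _
    have : m (J.toCotangent (x j.down)) = b j := by
      simp only [m, b, Ideal.mapCotangent_toCotangent, Module.Basis.reindex_apply, Module.Basis.mk_apply]
      rfl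
    rw [this, Module.Basis.repr_self]
  · choose a ha using fun j => Ideal.Quotient.mk_surjective (κ (J.toCotangent y) j)
    refine ⟨a, ha, ?_⟩
    have h := b.sum_repr (m (J.toCotangent y))
    have hsum : J'.toCotangent (∑ j, a j • x' j.down) = m (J.toCotangent y) := by
      rw [← h, map_sum]
      refine Finset.sum_congr rfl fun j _ => ?_
      rw [map_smul, show b.repr (m (J.toCotangent y)) j = Ideal.Quotient.mk J' (a j) from (ha j).symm]
      simp only [b, Module.Basis.reindex_apply, Module.Basis.mk_apply]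
      rfl
    rw [show m (J.toCotangent y) = J'.toCotangent ⟨algebraMap R R' y, Ideal.mem_map_of_mem _ y.2⟩ from rfl,
      Ideal.toCotangent_eq] at hsum
    simpa [x', AddSubmonoidClass.coe_finsetSum] using hsum

variable {Q : Type u} [CommRing Q] [Algebra R Q]

/-- If the graded map kills `z`, then its coordinates vanish at every quasi-regular chart. -/
theorem lam_eq_zero [Nonempty ι]
    (hq : CAlgX.IsQuasiRegular fun i => algebraMap R R' (x i))
    (hs : Ideal.span (Set.range fun i => algebraMap R R' (x i : R)) = J.map (algebraMap R R'))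
    (κ : J.Cotangent →ₗ[R] ULift.{u} (Fin d) →₀ R' ⧸ J.map (algebraMap R R'))
    (hκ : ∀ y : ↥J, ∃ a : ULift.{u} (Fin d) → R', (∀ j, Ideal.Quotient.mk _ (a j) = κ (J.toCotangent y) j) ∧
        ∑ j, a j * algebraMap R R' (x j.down) - algebraMap R R' y ∈ J.map (algebraMap R R') ^ 2)
    (φ : SymmetricPower R ι J.Cotangent →ₗ[R] PP16.grJ R J (Fintype.card ι))
    (hφ : ∀ x : ι → ↥J, φ (SymmetricPower.tprod R (fun i => J.toCotangent (x i))) = PP16.zetaJ R J x)
    (z : SymmetricPower R ι J.Cotangent) (hz : φ z = 0) : lam J ι κ z = 0 := by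
  classical
  let J' := J.map (algebraMap R R')
  let ev : MvPolynomial (ULift.{u} (Fin d)) R' →+* R' := eval fun j => algebraMap R R' (x j.down)
  let n := Fintype.card ι
  have key : ∀ z : SymmetricPower R ι J.Cotangent, ∃ G : MvPolynomial (ULift.{u} (Fin d)) R',
      G.IsHomogeneous n ∧ map (Ideal.Quotient.mk J') G = lam J ι κ z ∧
        ∃ y : ↥(J ^ n), φ z = Submodule.Quotient.mk y ∧ ev G - algebraMap R R' y ∈ J' ^ (n + 1) := by
    intro z
    have hz : z ∈ Submodule.span R (Set.range (SymmetricPower.tprod R (ι := ι) (M := J.Cotangent))) :=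
      (SymmetricPower.span_tprod_eq_top R ι J.Cotangent) ▸ Submodule.mem_top
    induction hz using Submodule.span_induction with
    | mem w hw =>
      obtain ⟨l, rfl⟩ := hw
      choose y hy using fun i => J.toCotangent_surjective (l i)
      choose a ha hay using fun i => hκ (y i)
      let lf : ι → MvPolynomial (ULift.{u} (Fin d)) R' := fun i => ∑ j, C (a i j) * X j
      have hl : l = fun i => J.toCotangent (y i) := funext fun i => (hy i).symm
      refine ⟨∏ i, lf i, ?_, ?_, ⟨∏ i, (y i : R), by
        simpa [n] using PP16.prod_mem_pow J Finset.univ (fun i => (y i : R)) fun i _ => (y i).2⟩, ?_, ?_⟩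
      · show IsHomogeneous _ (Fintype.card ι)
        rw [Fintype.card_eq_sum_ones]
        exact IsHomogeneous.prod _ _ _ fun i _ => IsHomogeneous.sum _ _ _ fun j _ => isHomogeneous_C_mul_X _ j
      · rw [lam_tprod, prodForm_apply, map_prod]
        refine Finset.prod_congr rfl fun i _ => ?_
        rw [← hy i]
        simp only [lf, map_sum, map_mul, map_C, map_X]
        rw [linForm, Finsupp.linearCombination_apply, Finsupp.sum_fintype _ _ (fun _ => by simp)]
        exact Finset.sum_congr rfl fun j _ => by rw [ha, smul_eq_C_mul]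
      · rw [hl, hφ]
        rfl
      · show ev (∏ i, lf i) - algebraMap R R' (∏ i, (y i : R)) ∈ _
        rw [map_prod, map_prod]
        have hev : ∀ i, ev (lf i) = ∑ j, a i j * algebraMap R R' (x j.down) := fun i => by
          simp [ev, lf]
        have hJ' : ∀ i, ∑ j, a i j * algebraMap R R' (x j.down) ∈ J' := fun i =>
          sum_mem fun j _ => Ideal.mul_mem_left _ _ (Ideal.mem_map_of_mem _ (x j.down).2)
        simp only [hev]
        have := prod_sub_prod_mem J' Finset.univ (fun i => ∑ j, a i j * algebraMap R R' (x j.down))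
          (fun i => algebraMap R R' (y i : R)) (fun i _ => hJ' i)
          (fun i _ => Ideal.mem_map_of_mem _ (y i).2) fun i _ => hay i
        simpa [n] using this
    | zero => exact ⟨0, isHomogeneous_zero _ _ _, by simp, 0, by simp, by simp⟩
    | add v w _ _ hv hw =>
      obtain ⟨G, hG, hGl, y, hy, hGy⟩ := hv
      obtain ⟨G', hG', hGl', y', hy', hGy'⟩ := hw
      refine ⟨G + G', hG.add hG', by rw [map_add, map_add, hGl, hGl'], y + y',
        by rw [map_add, hy, hy', Submodule.Quotient.mk_add], ?_⟩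
      rw [map_add, Submodule.coe_add, map_add, add_sub_add_comm]
      exact add_mem hGy hGy'
    | smul c w _ hw =>
      obtain ⟨G, hG, hGl, y, hy, hGy⟩ := hw
      refine ⟨C (algebraMap R R' c) * G, by simpa using (isHomogeneous_C _ _).mul hG, ?_, c • y,
        by rw [map_smul, hy, Submodule.Quotient.mk_smul], ?_⟩
      · rw [map_mul, map_C, hGl, map_smul, ← smul_eq_C_mul, show Ideal.Quotient.mk J' (algebraMap R R' c) =
          algebraMap R (R' ⧸ J') c from rfl, algebraMap_smul]
      · rw [map_mul, Submodule.coe_smul, smul_eq_mul, map_mul,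
          show ev (C (algebraMap R R' c)) = algebraMap R R' c from eval_C _, ← mul_sub]
        exact Ideal.mul_mem_left _ _ hGy
  obtain ⟨G, hG, hGl, y, hy, hGy⟩ := key z
  rw [hz, eq_comm, Submodule.Quotient.mk_eq_zero, Submodule.mem_comap] at hy
  have hev : ev G ∈ J' ^ (n + 1) := by
    have h2 : algebraMap R R' y ∈ J' ^ (n + 1) := by
      show _ ∈ (J.map (algebraMap R R')) ^ (n + 1)
      rw [← Ideal.map_pow]
      exact Ideal.mem_map_of_mem _ hy
    simpa using add_mem hGy h2
  let e : ULift.{u} (Fin d) → Fin d := ULift.down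
  have h3 := hq n (rename e G) hG.rename_isHomogeneous (by
    rw [hs, eval_rename]
    exact hev)
  rw [← hGl]
  ext p
  rw [coeff_map, coeff_zero, Ideal.Quotient.eq_zero_iff_mem, ← coeff_rename_mapDomain e ULift.down_injective]
  have h4 := h3 (p.mapDomain e)
  rwa [hs] at h4

omit [Fintype ι] in
/-- Linear maps out of `J/J²` agreeing on local generators agree. -/
theorem linearMap_ext_of_chart (g : R) {N : Type u} [AddCommGroup N] [Module R N] [Module Q N]
    [IsScalarTower R Q N] (hg : IsUnit (algebraMap R Q g))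
    (hgen : ∀ y : ↥J, ∃ m : ℕ, g ^ m * (y : R) ∈ Ideal.span (Set.range fun i => (x i : R)) ⊔ J ^ 2)
    (L₁ L₂ : J.Cotangent →ₗ[R] N) (h : ∀ i, L₁ (J.toCotangent (x i)) = L₂ (J.toCotangent (x i))) :
    L₁ = L₂ := by
  refine LinearMap.ext fun l => ?_
  obtain ⟨y, rfl⟩ := J.toCotangent_surjective l
  obtain ⟨m, hm⟩ := hgen y
  obtain ⟨a, ha, b, hb, hab⟩ := Submodule.mem_sup.1 hm
  obtain ⟨c, hc⟩ := (Submodule.mem_span_range_iff_exists_fun R).1 ha
  have : g ^ m • J.toCotangent y = ∑ i, c i • J.toCotangent (x i) := by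
    simp only [← map_smul, ← map_sum, Ideal.toCotangent_eq, Submodule.coe_smul, smul_eq_mul,
      AddSubmonoidClass.coe_finsetSum]
    rw [← hab, ← hc]
    simpa using hb
  have h2 := congrArg (fun t => L₁ t - L₂ t) this
  simp only [map_smul, map_sum, h, sub_self, ← smul_sub] at h2
  rw [← algebraMap_smul Q (g ^ m), map_pow, ((hg.pow m)).smul_eq_zero, sub_eq_zero] at h2
  exact h2

end chart

/-- A quasi-regular chart at `g`. -/
def Good (g : R) : Prop :=
  ∃ (d : ℕ) (x : Fin d → ↥J), CAlgX.IsQuasiRegular (fun i => algebraMap R (Localization.Away g) (x i)) ∧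
    Ideal.span (Set.range fun i => algebraMap R (Localization.Away g) (x i : R)) =
      J.map (algebraMap R (Localization.Away g))

variable {J}

theorem exists_good (h : PP16.IsLocallyQuasiRegular R J) (P : Ideal R) [P.IsPrime] (hP : J ≤ P) :
    ∃ g ∉ P, Good J g := by
  obtain ⟨g, hg, d, f, hf, hfJ⟩ := h P hP
  refine ⟨g, hg, d, ?_⟩
  have : ∀ i, ∃ x : ↥J, Ideal.span {algebraMap R (Localization.Away g) x} = Ideal.span {f i} := fun i => by
    obtain ⟨⟨x, s⟩, hx⟩ := (IsLocalization.mem_map_algebraMap_iff (Submonoid.powers g) (Localization.Away g)).1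
      (show f i ∈ J.map _ from hfJ ▸ Ideal.subset_span ⟨i, rfl⟩)
    exact ⟨x, by rw [← hx, Ideal.span_singleton_mul_right_unit (IsLocalization.map_units _ s)]⟩
  choose x hx using this
  have hspan : Ideal.span (Set.range fun i => algebraMap R (Localization.Away g) (x i : R)) =
      Ideal.span (Set.range f) := by
    simp only [Ideal.span, Submodule.span_range_eq_iSup]
    exact iSup_congr hx
  exact ⟨x, QReg26.isQuasiRegular_of_span_eq f _ hf hspan, hspan.trans hfJ⟩

theorem span_good_sup (h : PP16.IsLocallyQuasiRegular R J) :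
    Ideal.span {g | Good J g} ⊔ J = ⊤ := by
  by_contra hne
  obtain ⟨P, hP, hle⟩ := Ideal.exists_le_maximal _ hne
  obtain ⟨g, hg, hgood⟩ := exists_good h P (le_trans le_sup_right hle)
  exact hg (hle (Submodule.mem_sup_left (Ideal.subset_span hgood)))

theorem Good.gen {g : R} {d : ℕ} {x : Fin d → ↥J}
    (hs : Ideal.span (Set.range fun i => algebraMap R (Localization.Away g) (x i : R)) =
      J.map (algebraMap R (Localization.Away g))) (y : ↥J) :
    ∃ m : ℕ, g ^ m * (y : R) ∈ Ideal.span (Set.range fun i => (x i : R)) := by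
  have h := Ideal.mem_map_of_mem (algebraMap R (Localization.Away g)) y.2
  rw [← hs, show (fun i => algebraMap R (Localization.Away g) (x i : R)) =
    algebraMap R (Localization.Away g) ∘ fun i => (x i : R) from rfl, Set.range_comp, ← Ideal.map_span,
    IsLocalization.algebraMap_mem_map_algebraMap_iff (Submonoid.powers g)] at h
  obtain ⟨_, ⟨m, rfl⟩, hm⟩ := h
  exact ⟨m, hm⟩

theorem fg_of_isLocallyQuasiRegular (h : PP16.IsLocallyQuasiRegular R J) : J.FG := by
  refine Ideal.fg_of_localizationSpan ({g | Good J g} ∪ J) ?_ fun g => ?_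
  · rw [Ideal.span_union, Ideal.span_eq, span_good_sup h]
  · rcases g.2 with ⟨d, x, -, hx⟩ | hgJ
    · exact hx ▸ Submodule.fg_span (Set.finite_range _)
    · have : J.map (algebraMap R (Localization.Away g.1)) = ⊤ := Ideal.eq_top_of_isUnit_mem _
        (Ideal.mem_map_of_mem _ hgJ) (IsLocalization.Away.algebraMap_isUnit g.1)
      rw [this]
      exact Module.Finite.fg_top

theorem projective_of_isLocallyQuasiRegular (h : PP16.IsLocallyQuasiRegular R J) :
    Module.Projective (R ⧸ J) J.Cotangent := by
  refine (GrothLib.LocalFP.finite_projective_of_localizationSpan_free (R := R ⧸ J) J.Cotangent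
    (Ideal.Quotient.mk J '' {g | Good J g}) ?_ fun q => ?_).2
  · rw [← Ideal.map_span, ← Ideal.map_top (Ideal.Quotient.mk J), ← span_good_sup h, Ideal.map_sup,
      Ideal.map_quotient_self, sup_bot_eq]
  obtain ⟨g, ⟨d, x, hq, hs⟩, hgq⟩ := q.2
  rw [← hgq]
  let gb := Ideal.Quotient.mk J g
  let A := Localization.Away gb
  let M := LocalizedModule.Away gb J.Cotangent
  let e : Fin d → M := fun i => LocalizedModule.mk (J.toCotangent (x i)) 1
  have hli : LinearIndependent A e := by
    rw [Fintype.linearIndependent_iff]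
    intro c hc
    obtain ⟨⟨_, k, rfl⟩, hk⟩ := IsLocalization.exist_integer_multiples_of_finite (Submonoid.powers gb) c
    choose a ha using hk
    choose a' ha' using fun i => Ideal.Quotient.mk_surjective (a i)
    have h1 : LocalizedModule.mk (J.toCotangent (∑ i, a' i • x i)) (1 : Submonoid.powers gb) = (0 : M) := by
      rw [← smul_zero (gb ^ k : R ⧸ J), ← hc, Finset.smul_sum, map_sum,
        ← LocalizedModule.mkLinearMap_apply, map_sum]
      refine Finset.sum_congr rfl fun i _ => ?_
      rw [map_smul, ← smul_assoc, ← ha i, algebraMap_smul, ← ha' i, LocalizedModule.mkLinearMap_apply]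
      show LocalizedModule.mkLinearMap (Submonoid.powers gb) J.Cotangent
        (Ideal.Quotient.mk J (a' i) • J.toCotangent (x i)) = _
      rw [map_smul, LocalizedModule.mkLinearMap_apply]
    obtain ⟨⟨_, m, rfl⟩, hm⟩ := LocalizedModule.mk_eq.1 (h1.trans (LocalizedModule.zero_mk 1).symm)
    simp only [smul_zero, one_smul, Submonoid.smul_def] at hm
    have hq' : ∀ (c : R) (y : ↥J), Ideal.Quotient.mk J c • J.toCotangent y = J.toCotangent (c • y) :=
      fun c y => (map_smul J.toCotangent c y).symm
    rw [show (gb ^ m) = Ideal.Quotient.mk J (g ^ m) from (map_pow _ _ _).symm, hq',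
      Ideal.toCotangent_eq_zero] at hm
    intro i
    have h2 := Ideal.mem_map_of_mem (algebraMap R (Localization.Away g)) hm
    rw [Ideal.map_pow, ← hs] at h2
    have h3 := QReg26.mem_of_sum_mul_mem_sq hq (fun i => algebraMap R (Localization.Away g) (g ^ m * a' i))
      (by simpa [AddSubmonoidClass.coe_finsetSum, Finset.mul_sum, mul_assoc] using h2) i
    rw [hs, IsLocalization.algebraMap_mem_map_algebraMap_iff (Submonoid.powers g)] at h3
    obtain ⟨_, ⟨l, rfl⟩, hl⟩ := h3
    have hzero : algebraMap (R ⧸ J) A (a i) = 0 := by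
      refine (IsLocalization.map_eq_zero_iff (Submonoid.powers gb) A _).2 ⟨⟨gb ^ (l + m), _, rfl⟩, ?_⟩
      show gb ^ (l + m) * a i = 0
      rw [← ha', show gb = Ideal.Quotient.mk J g from rfl, ← map_pow, ← map_mul,
        Ideal.Quotient.eq_zero_iff_mem, pow_add, mul_assoc]
      exact hl
    rw [ha i, Algebra.smul_def] at hzero
    exact (((IsLocalization.Away.algebraMap_isUnit (S := A) gb).pow k)).mul_right_eq_zero.1
      (by rwa [← map_pow])
  have hsp : ⊤ ≤ Submodule.span A (Set.range e) := by
    intro z _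
    induction z using LocalizedModule.induction_on with
    | h l s =>
      obtain ⟨y, rfl⟩ := J.toCotangent_surjective l
      obtain ⟨m, hm⟩ := Good.gen hs y
      obtain ⟨c, hc⟩ := (Submodule.mem_span_range_iff_exists_fun R).1 hm
      have h1 : gb ^ m • J.toCotangent y = ∑ i, Ideal.Quotient.mk J (c i) • J.toCotangent (x i) := by
        show J.toCotangent (g ^ m • y) = _
        rw [show g ^ m • y = ∑ i, c i • x i from Subtype.ext (by simpa using hc.symm), map_sum]
        exact Finset.sum_congr rfl fun i _ => map_smul _ _ _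
      have hu : IsUnit (algebraMap (R ⧸ J) A (gb ^ m)) := by
        rw [map_pow]; exact (IsLocalization.Away.algebraMap_isUnit gb).pow m
      rw [← (Submodule.span A (Set.range e)).smul_mem_iff_of_isUnit hu, algebraMap_smul,
        LocalizedModule.smul'_mk, h1,
        show LocalizedModule.mk (∑ i, Ideal.Quotient.mk J (c i) • J.toCotangent (x i)) s =
          Localization.mk 1 s • LocalizedModule.mk (∑ i, Ideal.Quotient.mk J (c i) • J.toCotangent (x i)) 1 by
        rw [LocalizedModule.mk_smul_mk, one_smul, mul_one]]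
      refine Submodule.smul_mem _ _ ?_
      rw [← LocalizedModule.mkLinearMap_apply, map_sum]
      refine sum_mem fun i _ => ?_
      rw [map_smul, ← algebraMap_smul A]
      exact Submodule.smul_mem _ _ (Submodule.subset_span ⟨i, rfl⟩)
  let b := Module.Basis.mk hli hsp
  exact ⟨Module.Finite.of_basis b, Module.Free.of_basis b⟩

/-- Quasi-regular ideals have symmetric associated graded rings. -/
theorem symGrBijective_of_isLocallyQuasiRegular (h : PP16.IsLocallyQuasiRegular R J) :
    PP16.SymGrBijective R J := by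
  classical
  intro ι _ _
  obtain ⟨φ, hφ, hsurj⟩ := exists_phi J (ι := ι)
  refine ⟨φ, hφ, (injective_iff_map_eq_zero φ).2 fun z hz => ?_, hsurj⟩
  haveI := projective_of_isLocallyQuasiRegular h
  obtain ⟨σ, r, s, hrs⟩ := exists_presentation J
  suffices hzero : toPoly J ι s z = 0 by
    rw [← ofPoly_toPoly J r s hrs z, hzero, map_zero]
  ext p
  obtain ⟨c, hc⟩ := Ideal.Quotient.mk_surjective ((toPoly J ι s z).coeff p)
  rw [coeff_zero, ← hc, Ideal.Quotient.eq_zero_iff_mem]
  -- the ideal of elements killing `c` modulo `J` contains a power of every good element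
  let T : Ideal R := Submodule.colon J {c}
  suffices hT : ∀ g, Good J g → g ∈ T.radical by
    have h1 : T.radical = ⊤ := eq_top_iff.2 <| span_good_sup h ▸ sup_le (Ideal.span_le.2 hT)
      (le_trans (fun a ha => Submodule.mem_colon_singleton.2 (J.mul_mem_right c ha)) Ideal.le_radical)
    have h2 : (1 : R) ∈ T := by rw [Ideal.radical_eq_top.1 h1]; trivial
    simpa using Submodule.mem_colon_singleton.1 h2
  rintro g ⟨d, x, hq, hs⟩
  obtain ⟨κ, hκ1, hκ⟩ := exists_coord J x hq hs
  let R' := Localization.Away g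
  let J' := J.map (algebraMap R R')
  have hl := lam_eq_zero J x hq hs κ hκ φ hφ z hz
  let ψ : (R ⧸ J) →ₐ[R] R' ⧸ J' := Ideal.quotientMapₐ J' (Algebra.ofId R R') Ideal.le_comap_map
  let lf : J.Cotangent →ₗ[R] MvPolynomial σ (R' ⧸ J') :=
    (mapAlgHom ψ).toLinearMap ∘ₗ ((linForm (σ := σ) (B := R ⧸ J)).restrictScalars R) ∘ₗ (s.restrictScalars R)
  let N : ULift.{u} (Fin d) → MvPolynomial σ (R' ⧸ J') := fun j => lf (J.toCotangent (x j.down))
  let sub : MvPolynomial (ULift.{u} (Fin d)) (R' ⧸ J') →ₐ[R] MvPolynomial σ (R' ⧸ J') :=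
    (aeval N).restrictScalars R
  have hlf : sub.toLinearMap ∘ₗ ((linForm (σ := ULift.{u} (Fin d)) (B := R' ⧸ J')).restrictScalars R) ∘ₗ κ = lf := by
    refine linearMap_ext_of_chart (Q := R' ⧸ J') (N := MvPolynomial σ (R' ⧸ J')) J x g
      ((IsLocalization.Away.algebraMap_isUnit g).map (Ideal.Quotient.mk J'))
      (fun y => (Good.gen hs y).imp fun m hm => Submodule.mem_sup_left hm) _ _ fun i => ?_
    show sub (linForm (κ (J.toCotangent (x i)))) = _
    rw [show i = (ULift.up.{u} i).down from rfl, hκ1, linForm, Finsupp.linearCombination_single, one_smul]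
    exact aeval_X _ _
  have hcomp : (mapAlgHom ψ).toLinearMap ∘ₗ toPoly J ι s = sub.toLinearMap ∘ₗ lam J ι κ := by
    refine sym_ext fun l => ?_
    simp only [LinearMap.comp_apply, toPoly_tprod, lam_tprod, prodForm_apply, AlgHom.toLinearMap_apply, map_prod]
    exact Finset.prod_congr rfl fun i _ => (LinearMap.congr_fun hlf (l i)).symm
  have h0 : map (ψ : (R ⧸ J) →+* R' ⧸ J') (toPoly J ι s z) = 0 := by
    have := LinearMap.congr_fun hcomp z
    simp only [LinearMap.comp_apply, hl, map_zero] at this
    exact this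
  have h1 := congrArg (coeff p) h0
  rw [coeff_map, ← hc, coeff_zero] at h1
  have h2 : Ideal.Quotient.mk J' (algebraMap R R' c) = 0 := h1
  rw [Ideal.Quotient.eq_zero_iff_mem, IsLocalization.algebraMap_mem_map_algebraMap_iff (Submonoid.powers g)] at h2
  obtain ⟨_, ⟨m, rfl⟩, hm⟩ := h2
  exact ⟨m, Submodule.mem_colon_singleton.2 hm⟩

/-- The converse: the symmetric algebra criterion gives quasi-regular generators locally. -/
theorem isLocallyQuasiRegular_of (hfg : J.FG) [Module.Projective (R ⧸ J) J.Cotangent]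
    (hbij : PP16.SymGrBijective R J) : PP16.IsLocallyQuasiRegular R J := by
  classical
  intro P _ hJP
  let S := R ⧸ J
  haveI : Module.Finite R ↥J := Module.Finite.iff_fg.2 hfg
  haveI : Module.Finite R J.Cotangent := Module.Finite.of_surjective J.toCotangent J.toCotangent_surjective
  haveI : Module.Finite S J.Cotangent := Module.Finite.of_restrictScalars_finite R S _
  haveI : Module.FinitePresentation S J.Cotangent := Module.finitePresentation_of_projective _ _
  haveI hPb : (P.map (Ideal.Quotient.mk J)).IsPrime :=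
    Ideal.map_isPrime_of_surjective Ideal.Quotient.mk_surjective (by rwa [Ideal.mk_ker])
  let Pb := P.map (Ideal.Quotient.mk J)
  haveI : Module.Free (Localization.AtPrime Pb) (LocalizedModule Pb.primeCompl J.Cotangent) :=
    Module.free_of_flat_of_isLocalRing
  obtain ⟨gb, hgb, hfree, -⟩ := Module.FinitePresentation.exists_free_localizedModule_powers Pb.primeCompl
    (LocalizedModule.mkLinearMap Pb.primeCompl J.Cotangent) (Localization.AtPrime Pb)
  obtain ⟨g, rfl⟩ := Ideal.Quotient.mk_surjective gb
  let A := Localization.Away (Ideal.Quotient.mk J g)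
  let M := LocalizedModule.Away (Ideal.Quotient.mk J g) J.Cotangent
  have hgP : g ∉ P := fun h => hgb (Ideal.mem_map_of_mem _ h)
  haveI : Module.Finite A M := Module.Finite.of_isLocalizedModule
    (Submonoid.powers (Ideal.Quotient.mk J g)) (LocalizedModule.mkLinearMap _ J.Cotangent)
  let b₀ := Module.Free.chooseBasis A M
  let d := Fintype.card (Module.Free.ChooseBasisIndex A M)
  let b₁ := b₀.reindex (Fintype.equivFin _)
  have hnum : ∀ i : Fin d, ∃ (x : ↥J) (a : Aˣ), (a : A) • b₁ i = LocalizedModule.mk (J.toCotangent x) 1 := by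
    intro i
    obtain ⟨⟨l, s⟩, hl⟩ := IsLocalizedModule.surj (Submonoid.powers (Ideal.Quotient.mk J g))
      (LocalizedModule.mkLinearMap _ J.Cotangent) (b₁ i)
    obtain ⟨y, rfl⟩ := J.toCotangent_surjective l
    refine ⟨y, (IsLocalization.map_units A s).unit, ?_⟩
    rw [IsUnit.unit_spec, algebraMap_smul]
    exact hl
  choose x u hu using hnum
  let b₂ := b₁.unitsSMul u
  let e : Fin d ≃ ULift.{u} (Fin d) := Equiv.ulift.symm
  let b := b₂.reindex e
  have hb : ∀ j, b j = LocalizedModule.mk (J.toCotangent (x j.down)) 1 := fun j => by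
    rw [Module.Basis.reindex_apply, Module.Basis.unitsSMul_apply]
    exact hu _
  let κ : J.Cotangent →ₗ[R] ULift.{u} (Fin d) →₀ A :=
    (((b.repr.toLinearMap).restrictScalars S).comp
      (LocalizedModule.mkLinearMap (Submonoid.powers (Ideal.Quotient.mk J g)) J.Cotangent)).restrictScalars R
  have hκ : ∀ j : ULift.{u} (Fin d), κ (J.toCotangent (x j.down)) = Finsupp.single j 1 := fun j => by
    show b.repr (LocalizedModule.mk (J.toCotangent (x j.down)) 1) = _
    rw [← hb, Module.Basis.repr_self]
  -- generation modulo `J²` after inverting `g`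
  let R₁ := Localization.Away g
  let J₁ := J.map (algebraMap R R₁)
  let K₁ : Ideal R₁ := Ideal.span (Set.range fun i => algebraMap R R₁ (x i : R))
  have hKJ : K₁ ≤ J₁ := by
    rw [Ideal.span_le]; rintro _ ⟨i, rfl⟩; exact Ideal.mem_map_of_mem _ (x i).2
  have hgen : J₁ ≤ K₁ ⊔ J₁ * J₁ := by
    refine Ideal.map_le_iff_le_comap.2 fun y hy => ?_
    obtain ⟨⟨_, k, rfl⟩, hk⟩ := IsLocalization.exist_integer_multiples_of_finite
      (Submonoid.powers (Ideal.Quotient.mk J g)) fun j => κ (J.toCotangent ⟨y, hy⟩) j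
    choose a ha using hk
    choose a' ha' using fun j => Ideal.Quotient.mk_surjective (a j)
    have h1 : LocalizedModule.mk (J.toCotangent (g ^ k • (⟨y, hy⟩ : J)))
          (1 : Submonoid.powers (Ideal.Quotient.mk J g)) =
        LocalizedModule.mk (J.toCotangent (∑ j, a' j • x j.down)) 1 := by
      simp only [← LocalizedModule.mkLinearMap_apply, map_smul, map_sum]
      rw [show g ^ k • J.toCotangent ⟨y, hy⟩ = Ideal.Quotient.mk J (g ^ k) • J.toCotangent ⟨y, hy⟩ from rfl,
        map_smul, map_pow]
      conv_lhs => rw [← b.sum_repr (LocalizedModule.mkLinearMap _ _ (J.toCotangent ⟨y, hy⟩)), Finset.smul_sum]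
      refine Finset.sum_congr rfl fun j _ => ?_
      rw [← smul_assoc, show a' j • J.toCotangent (x j.down) = Ideal.Quotient.mk J (a' j) • J.toCotangent (x j.down)
        from rfl, map_smul, ha', hb, ← algebraMap_smul A (a j), ha j]
      rfl
    obtain ⟨⟨_, m, rfl⟩, hm⟩ := LocalizedModule.mk_eq.1 h1
    simp only [one_smul, Submonoid.smul_def] at hm
    rw [← map_pow, show ∀ l : J.Cotangent, Ideal.Quotient.mk J (g ^ m) • l = g ^ m • l from fun _ => rfl,
      ← map_smul, show ∀ l : J.Cotangent, Ideal.Quotient.mk J (g ^ m) • l = g ^ m • l from fun _ => rfl,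
      ← map_smul, Ideal.toCotangent_eq] at hm
    have hdiff := Ideal.mem_map_of_mem (algebraMap R R₁) hm
    rw [Ideal.map_pow, pow_two] at hdiff
    have hK : algebraMap R R₁ ((g ^ m • ∑ j, a' j • x j.down : J) : R) ∈ K₁ := by
      simp only [Submodule.coe_smul, AddSubmonoidClass.coe_finsetSum, smul_eq_mul, map_mul, map_sum]
      exact Ideal.mul_mem_left _ _ (sum_mem fun j _ => Ideal.mul_mem_left _ _ (Ideal.subset_span ⟨_, rfl⟩))
    have := add_mem (Submodule.mem_sup_right (S := K₁) hdiff) (Submodule.mem_sup_left (T := J₁ * J₁) hK)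
    rw [map_sub, sub_add_cancel] at this
    simp only [Submodule.coe_smul, smul_eq_mul, map_mul, map_pow] at this
    rw [← mul_assoc, ← pow_add] at this
    exact ((K₁ ⊔ J₁ * J₁).unit_mul_mem_iff_mem ((IsLocalization.Away.algebraMap_isUnit g).pow _)).1 this
  -- Nakayama
  obtain ⟨a, ha, k, hak⟩ : ∃ a : R, a ∉ P ∧ ∃ k : ℕ, ∀ y ∈ J, algebraMap R R₁ (a * y) ∈ K₁ := by
    let N : Ideal (R₁ ⧸ K₁) := J₁.map (Ideal.Quotient.mk K₁)
    have hle : N ≤ N • N := by
      calc N ≤ (K₁ ⊔ J₁ * J₁).map (Ideal.Quotient.mk K₁) := Ideal.map_mono hgen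
        _ = N • N := by rw [Ideal.map_sup, Ideal.map_quotient_self, bot_sup_eq, Ideal.map_mul, smul_eq_mul]
    obtain ⟨e, he, heN⟩ := Submodule.exists_sub_one_mem_and_smul_eq_zero_of_fg_of_le_smul N N
      ((hfg.map _).map _) hle
    obtain ⟨e, rfl⟩ := Ideal.Quotient.mk_surjective e
    have he1 : e - 1 ∈ J₁ := by
      rw [← map_one (Ideal.Quotient.mk K₁), ← map_sub, ← Ideal.mem_comap,
        Ideal.comap_map_of_surjective _ Ideal.Quotient.mk_surjective, ← RingHom.ker_eq_comap_bot, Ideal.mk_ker,
        sup_eq_left.2 hKJ] at he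
      exact he
    obtain ⟨⟨a, ⟨_, k, rfl⟩⟩, hea⟩ := IsLocalization.surj (Submonoid.powers g) e
    refine ⟨a, fun haP => ?_, k, fun y hy => ?_⟩
    · have : algebraMap R R₁ (a - g ^ k) ∈ J₁ := by
        rw [map_sub, ← hea]
        simpa [sub_mul] using J₁.mul_mem_right (algebraMap R R₁ (g ^ k)) he1
      rw [IsLocalization.algebraMap_mem_map_algebraMap_iff (Submonoid.powers g)] at this
      obtain ⟨_, ⟨l, rfl⟩, hl⟩ := this
      have := hJP hl
      rcases (Ideal.IsPrime.mem_or_mem ‹P.IsPrime› this) with h | h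
      · exact hgP (Ideal.IsPrime.mem_of_pow_mem ‹P.IsPrime› _ h)
      · exact hgP (Ideal.IsPrime.mem_of_pow_mem ‹P.IsPrime› k (by simpa using sub_mem haP h))
    · rw [map_mul, ← hea, mul_right_comm]
      refine Ideal.mul_mem_right _ _ ?_
      rw [← Ideal.Quotient.eq_zero_iff_mem, map_mul]
      exact heN _ (Ideal.mem_map_of_mem _ (Ideal.mem_map_of_mem _ hy))
  -- the chart
  let g' := g * a
  let R' := Localization.Away g'
  have hg'P : g' ∉ P := fun h => (Ideal.IsPrime.mem_or_mem ‹P.IsPrime› h).elim hgP ha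
  have hug : IsUnit (algebraMap R R' g) := isUnit_of_mul_isUnit_left
    (y := algebraMap R R' a) (by rw [← map_mul]; exact IsLocalization.Away.algebraMap_isUnit g')
  have hua : IsUnit (algebraMap R R' a) := isUnit_of_mul_isUnit_right
    (x := algebraMap R R' g) (by rw [← map_mul]; exact IsLocalization.Away.algebraMap_isUnit g')
  have hspan : Ideal.span (Set.range fun i => algebraMap R R' (x i : R)) = J.map (algebraMap R R') := by
    refine le_antisymm ?_ (Ideal.map_le_iff_le_comap.2 fun y hy => ?_)
    · rw [Ideal.span_le]; rintro _ ⟨i, rfl⟩; exact Ideal.mem_map_of_mem _ (x i).2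
    · have h := hak y hy
      simp only [K₁] at h
      rw [show (fun i => algebraMap R R₁ (x i : R)) = algebraMap R R₁ ∘ fun i => (x i : R) from rfl,
        Set.range_comp, ← Ideal.map_span, IsLocalization.algebraMap_mem_map_algebraMap_iff (Submonoid.powers g)] at h
      obtain ⟨_, ⟨m, rfl⟩, hm⟩ := h
      have h' := Ideal.mem_map_of_mem (algebraMap R R') hm
      rw [Ideal.map_span, ← Set.range_comp, map_mul, map_mul, map_pow, ← mul_assoc] at h'
      exact ((Ideal.span (Set.range fun i => algebraMap R R' (x i : R))).unit_mul_mem_iff_mem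
        ((hug.pow m).mul hua)).1 h'
  refine ⟨g', hg'P, d, fun i => algebraMap R R' (x i), fun n F hF hev p => ?_, hspan⟩
  rw [hspan] at hev ⊢
  rcases Nat.eq_zero_or_pos n with rfl | hn
  · have hC := homogeneousComponent_eq_self hF
    rw [homogeneousComponent_zero] at hC
    rw [← hC, coeff_C]
    rw [← hC, eval_C, zero_add, pow_one] at hev
    split_ifs
    · exact hev
    · exact zero_mem _
  haveI : Nonempty (ULift.{u} (Fin n)) := ⟨⟨⟨0, hn⟩⟩⟩
  obtain ⟨⟨_, t, rfl⟩, ht⟩ := IsLocalization.exist_integer_multiples (Submonoid.powers g') F.support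
    fun q => coeff q F
  choose! c hc using ht
  let F₀ : MvPolynomial (Fin d) R := ∑ q ∈ F.support, monomial q (c q)
  have hF₀ : F₀.IsHomogeneous n := IsHomogeneous.sum _ _ _ fun q hq => isHomogeneous_monomial _ (by
    have := hF (mem_support_iff.1 hq)
    rw [Finsupp.degree_eq_weight_one]
    exact this)
  have hmap : map (algebraMap R R') F₀ = C (algebraMap R R' (g' ^ t)) * F := by
    conv_rhs => rw [F.as_sum, Finset.mul_sum]
    simp only [F₀, map_sum, map_monomial]
    refine Finset.sum_congr rfl fun q hq => ?_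
    rw [hc q hq, C_mul_monomial, Algebra.smul_def]
  have hev₀ : algebraMap R R' (eval (fun i => (x i : R)) F₀) ∈ J.map (algebraMap R R') ^ (n + 1) := by
    rw [map_eval (algebraMap R R'), hmap, map_mul, eval_C]
    exact Ideal.mul_mem_left _ _ hev
  rw [← Ideal.map_pow, IsLocalization.algebraMap_mem_map_algebraMap_iff (Submonoid.powers g')] at hev₀
  obtain ⟨_, ⟨m, rfl⟩, hm⟩ := hev₀
  obtain ⟨φ, hφ, hφbij⟩ := hbij (ULift.{u} (Fin n))
  have hcard : Fintype.card (ULift.{u} (Fin n)) = n := by simp
  let F₁ : MvPolynomial (ULift.{u} (Fin d)) R := C (g' ^ m) * rename e F₀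
  have hF₁ : F₁.IsHomogeneous (Fintype.card (ULift.{u} (Fin n))) := by
    rw [hcard]
    simpa using (isHomogeneous_C _ _).mul hF₀.rename_isHomogeneous
  let r : (ULift.{u} (Fin d) →₀ R ⧸ J) →ₗ[R ⧸ J] J.Cotangent :=
    Finsupp.linearCombination (R ⧸ J) fun j => J.toCotangent (x j.down)
  have hr : ∀ j, r (Finsupp.single j 1) = J.toCotangent (x j.down) := fun j => by
    simp [r, Finsupp.linearCombination_single]
  have heq : eval (fun j : ULift.{u} (Fin d) => (x j.down : R)) F₁ = g' ^ m * eval (fun i => (x i : R)) F₀ := by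
    rw [map_mul, eval_C, eval_rename]
    rfl
  have h2 := phi_ofPoly J hφ r (fun j => x j.down) hr hF₁ (by
    rw [heq, hcard]
    exact Ideal.pow_le_pow_right (Nat.le_succ n) hm)
  rw [(Submodule.Quotient.mk_eq_zero _).2 (by
    show eval (fun j : ULift.{u} (Fin d) => (x j.down : R)) F₁ ∈ J ^ (Fintype.card (ULift.{u} (Fin n)) + 1)
    rw [heq, hcard]; exact hm), ← map_zero φ] at h2
  have h3 := congrArg (lam J (ULift.{u} (Fin n)) κ) (hφbij.1 h2)
  rw [lam_ofPoly J κ r (fun j => by rw [hr]; exact hκ j) F₁ hF₁, map_zero] at h3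
  have h4 : algebraMap R A (g' ^ m * coeff p F₀) = 0 := by
    have := congrArg (coeff (p.mapDomain e)) h3
    rwa [coeff_map, coeff_C_mul, coeff_rename_mapDomain _ e.injective, coeff_zero] at this
  rw [IsScalarTower.algebraMap_apply R (R ⧸ J) A,
    IsLocalization.map_eq_zero_iff (Submonoid.powers (Ideal.Quotient.mk J g))] at h4
  obtain ⟨⟨_, l, rfl⟩, hl⟩ := h4
  replace hl : Ideal.Quotient.mk J (g ^ l * (g' ^ m * coeff p F₀)) = 0 := by
    rw [map_mul, map_pow]; exact hl
  rw [Ideal.Quotient.eq_zero_iff_mem] at hl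
  have h5 := Ideal.mem_map_of_mem (algebraMap R R') hl
  rw [map_mul, map_mul, ← coeff_map (algebraMap R R'), hmap, coeff_C_mul, ← mul_assoc, ← mul_assoc] at h5
  refine ((J.map (algebraMap R R')).unit_mul_mem_iff_mem ?_).1 h5
  simp only [map_pow]
  exact ((hug.pow _).mul ((IsLocalization.Away.algebraMap_isUnit g').pow _)).mul
    ((IsLocalization.Away.algebraMap_isUnit g').pow _)

/-- **Quasi-regular ideals.** -/
theorem isLocallyQuasiRegular_iff :
    PP16.IsLocallyQuasiRegular R J ↔
      J.FG ∧ Module.Projective (R ⧸ J) J.Cotangent ∧ PP16.SymGrBijective R J := by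
  refine ⟨fun h => ⟨fg_of_isLocallyQuasiRegular h, projective_of_isLocallyQuasiRegular h,
    symGrBijective_of_isLocallyQuasiRegular h⟩, fun ⟨h₁, h₂, h₃⟩ => ?_⟩
  haveI := h₂
  exact isLocallyQuasiRegular_of h₁ h₃

end GrothLib.SymGrLoc
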